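import Mathlib.Algebra.Homology.DerivedCategory.Ext.Map
import Mathlib.Algebra.Homology.DerivedCategory.Ext.Basic

/-!
# `Ext` groups are retracts along an exact functor with an exact retraction

If `F₁ : C₁ ⥤ C₂` and `F₂ : C₂ ⥤ C₁` are exact functors with `F₁ ⋙ F₂ ≅ 𝟭`, then the map
`Ext A M n → Ext (F₁ A) (F₁ M) n` induced by `F₁` is a split monomorphism.
-/

set_option autoImplicit false
universe w v₁ v₂ u₁ u₂
open CategoryTheory CategoryTheory.Limits CategoryTheory.Abelian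

namespace Groth.Agent.H5.Desc

variable {C₁ : Type u₁} [Category.{v₁} C₁] [Abelian C₁] {C₂ : Type u₂} [Category.{v₂} C₂] [Abelian C₂]
  (F₁ : C₁ ⥤ C₂) [F₁.Additive] [PreservesFiniteLimits F₁] [PreservesFiniteColimits F₁]
  (F₂ : C₂ ⥤ C₁) [F₂.Additive] [PreservesFiniteLimits F₂] [PreservesFiniteColimits F₂]
  (i : F₁ ⋙ F₂ ≅ 𝟭 C₁)

/-- The isomorphism on cochain complexes. -/
noncomputable def mapHCIso :
    F₁.mapHomologicalComplex (ComplexShape.up ℤ) ⋙ F₂.mapHomologicalComplex (ComplexShape.up ℤ) ≅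
      𝟭 (CochainComplex C₁ ℤ) :=
  NatIso.ofComponents (fun K => HomologicalComplex.Hom.isoOfComponents (fun n => i.app (K.X n))
    (by
      intro a b _
      exact (i.hom.naturality (K.d a b)).symm))
    (by
      intro K L f
      ext n
      exact i.hom.naturality (f.f n))

section

attribute [local instance] HasDerivedCategory.standard

/-- The composition of the induced functors on derived categories is isomorphic to the identity. -/
noncomputable def mapDCompIso :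
    F₁.mapDerivedCategory ⋙ F₂.mapDerivedCategory ≅ 𝟭 (DerivedCategory C₁) :=
  letI : Localization.Lifting DerivedCategory.Q (HomologicalComplex.quasiIso C₁ (ComplexShape.up ℤ))
      ((F₁.mapHomologicalComplex _ ⋙ F₂.mapHomologicalComplex _) ⋙ DerivedCategory.Q)
      (F₁.mapDerivedCategory ⋙ F₂.mapDerivedCategory) :=
    ⟨(Functor.associator _ _ _).symm ≪≫ Functor.isoWhiskerRight F₁.mapDerivedCategoryFactors _ ≪≫
      Functor.associator _ _ _ ≪≫ Functor.isoWhiskerLeft _ F₂.mapDerivedCategoryFactors ≪≫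
      (Functor.associator _ _ _).symm⟩
  Localization.liftNatIso DerivedCategory.Q (HomologicalComplex.quasiIso C₁ (ComplexShape.up ℤ))
    ((F₁.mapHomologicalComplex _ ⋙ F₂.mapHomologicalComplex _) ⋙ DerivedCategory.Q)
    DerivedCategory.Q _ _
    (Functor.isoWhiskerRight (mapHCIso F₁ F₂ i) _ ≪≫ Functor.leftUnitor _)

theorem map_bijective_of_iso_id {D : Type*} [Category D] (G : D ⥤ D) (ν : G ≅ 𝟭 D) (X Y : D) :
    Function.Bijective (fun x : X ⟶ Y => G.map x) := by
  haveI : G.Faithful := Functor.Faithful.of_iso ν.symm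
  haveI : G.Full := Functor.Full.of_iso ν.symm
  exact ⟨G.map_injective, G.map_surjective⟩

variable {F₁ F₂}

/-- auxiliary isomorphism on the source -/
noncomputable def αIso (A : C₁) :
    (DerivedCategory.singleFunctor C₁ 0).obj (F₂.obj (F₁.obj A)) ≅
      F₂.mapDerivedCategory.obj (F₁.mapDerivedCategory.obj ((DerivedCategory.singleFunctor C₁ 0).obj A)) :=
  ((F₂.mapDerivedCategorySingleFunctor 0).app (F₁.obj A)).symm ≪≫
    F₂.mapDerivedCategory.mapIso (((F₁.mapDerivedCategorySingleFunctor 0).app A).symm)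

/-- auxiliary isomorphism on the target -/
noncomputable def βIso (M : C₁) (n : ℤ) :
    F₂.mapDerivedCategory.obj (F₁.mapDerivedCategory.obj
      (((DerivedCategory.singleFunctor C₁ 0).obj M)⟦n⟧)) ≅
      ((DerivedCategory.singleFunctor C₁ 0).obj (F₂.obj (F₁.obj M)))⟦n⟧ :=
  F₂.mapDerivedCategory.mapIso ((F₁.mapDerivedCategory.commShiftIso n).app _) ≪≫
    (F₂.mapDerivedCategory.commShiftIso n).app _ ≪≫
    (shiftFunctor _ n).mapIso (F₂.mapDerivedCategory.mapIso
      ((F₁.mapDerivedCategorySingleFunctor 0).app M) ≪≫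
        (F₂.mapDerivedCategorySingleFunctor 0).app (F₁.obj M))

theorem mapExactFunctor_mapExactFunctor_hom [HasExt.{w} C₁] [HasExt.{w} C₂] {A M : C₁} {n : ℕ}
    (e : Ext.{w} A M n) :
    ((e.mapExactFunctor F₁).mapExactFunctor F₂).hom =
      (αIso (F₁ := F₁) (F₂ := F₂) A).hom ≫
        (F₁.mapDerivedCategory ⋙ F₂.mapDerivedCategory).map e.hom ≫
        (βIso (F₁ := F₁) (F₂ := F₂) M n).hom := by
  have nat := (F₂.mapDerivedCategory.commShiftIso (n : ℤ)).hom.naturality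
    ((F₁.mapDerivedCategorySingleFunctor 0).hom.app M)
  simp only [Functor.comp_map] at nat
  simp only [Ext.mapExactFunctor_hom, ShiftedHom.map, Functor.map_comp, Category.assoc, αIso, βIso,
    Iso.trans_hom, Iso.symm_hom, Functor.mapIso_hom, Iso.app_hom, Iso.app_inv, Functor.mapIso_inv,
    Functor.comp_map]
  rw [reassoc_of% nat]

end

variable {F₁ F₂}

include i in
theorem exists_retraction [HasExt.{w} C₁] [HasExt.{w} C₂] (A M : C₁) (n : ℕ) :
    ∃ ρ : Ext.{w} (F₁.obj A) (F₁.obj M) n →+ Ext.{w} A M n,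
      ∀ e : Ext.{w} A M n, ρ (e.mapExactFunctor F₁) = e := by
  letI := HasDerivedCategory.standard C₁
  letI := HasDerivedCategory.standard C₂
  let T : Ext.{w} A M n →+ Ext.{w} (F₂.obj (F₁.obj A)) (F₂.obj (F₁.obj M)) n :=
    (F₂.mapExtAddHom (F₁.obj A) (F₁.obj M) n).comp (F₁.mapExtAddHom A M n)
  have hT : ∀ e, (T e).hom = (αIso (F₁ := F₁) (F₂ := F₂) A).hom ≫
        (F₁.mapDerivedCategory ⋙ F₂.mapDerivedCategory).map e.hom ≫
        (βIso (F₁ := F₁) (F₂ := F₂) M n).hom := fun e =>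
    mapExactFunctor_mapExactFunctor_hom e
  have hG := map_bijective_of_iso_id _ (mapDCompIso F₁ F₂ i)
    ((DerivedCategory.singleFunctor C₁ 0).obj A) (((DerivedCategory.singleFunctor C₁ 0).obj M)⟦(n : ℤ)⟧)
  have hbij : Function.Bijective T := by
    constructor
    · intro e e' h
      have h' := congrArg Ext.hom h
      rw [hT, hT, cancel_epi, cancel_mono] at h'
      exact Ext.ext (hG.1 h')
    · intro y
      obtain ⟨x, hx⟩ := hG.2 ((αIso (F₁ := F₁) (F₂ := F₂) A).inv ≫ y.hom ≫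
        (βIso (F₁ := F₁) (F₂ := F₂) M n).inv)
      refine ⟨Ext.homEquiv.symm x, Ext.ext ?_⟩
      rw [hT]
      have : (Ext.homEquiv.symm x : Ext.{w} A M n).hom = x := Ext.homEquiv.apply_symm_apply x
      rw [this]
      dsimp only at hx
      rw [hx]
      simp
  let Te : Ext.{w} A M n ≃+ Ext.{w} (F₂.obj (F₁.obj A)) (F₂.obj (F₁.obj M)) n :=
    AddEquiv.ofBijective T hbij
  refine ⟨Te.symm.toAddMonoidHom.comp (F₂.mapExtAddHom (F₁.obj A) (F₁.obj M) n), fun e => ?_⟩
  change Te.symm (T e) = e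
  exact Te.symm_apply_apply e

include i in
/-- Packaged version with isomorphisms on both variables, as morphisms of `AddCommGrpCat`. -/
theorem exists_split_mono [HasExt.{w} C₁] [HasExt.{w} C₂] (A₁ M : C₁) (A₂ N : C₂)
    (a : A₂ ≅ F₁.obj A₁) (m : N ≅ F₁.obj M) (n : ℕ) :
    ∃ (ι : AddCommGrpCat.of (Ext.{w} A₁ M n) ⟶ AddCommGrpCat.of (Ext.{w} A₂ N n))
      (ρ : AddCommGrpCat.of (Ext.{w} A₂ N n) ⟶ AddCommGrpCat.of (Ext.{w} A₁ M n)),
      ι ≫ ρ = 𝟙 _ := by
  obtain ⟨ρ₀, hρ₀⟩ := exists_retraction (F₁ := F₁) (F₂ := F₂) i A₁ M n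
  let φ : Ext.{w} (F₁.obj A₁) (F₁.obj M) n →+ Ext.{w} A₂ N n :=
    ((Ext.mk₀ a.hom).precomp N (zero_add n)).comp ((Ext.mk₀ m.inv).postcomp (F₁.obj A₁) (add_zero n))
  let ψ : Ext.{w} A₂ N n →+ Ext.{w} (F₁.obj A₁) (F₁.obj M) n :=
    ((Ext.mk₀ a.inv).precomp (F₁.obj M) (zero_add n)).comp ((Ext.mk₀ m.hom).postcomp A₂ (add_zero n))
  have hψφ : ∀ x, ψ (φ x) = x := by
    intro x
    simp [φ, ψ]
  refine ⟨AddCommGrpCat.ofHom (φ.comp (F₁.mapExtAddHom A₁ M n)),
    AddCommGrpCat.ofHom (ρ₀.comp ψ), ?_⟩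
  ext e
  change ρ₀ (ψ (φ (Ext.mapExactFunctor F₁ e))) = e
  rw [hψφ, hρ₀]

end Groth.Agent.H5.Desc
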