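import Groth.Prelude.Def_SpSeq
import Mathlib.Algebra.Homology.Embedding.ExtendHomology
import Mathlib.Algebra.Homology.SpectralSequence.Basic
import Mathlib.CategoryTheory.Abelian.Refinements

/-!
# Split towers, their formal complexes, and two-page spectral sequences

* `SplitTower C` : a tower `H ⟶ G 0 ⟶ G 1 ⟶ ...` of split monomorphisms (with chosen retractions).
* `SplitTower.cx` : the associated (formal) cochain complex, indexed by `ℤ`, which is a resolution
  of `H`: it is exact in degrees `≠ 0` and its `H⁰` is `H`.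
* `exists_ss` : a family `K q` of cochain complexes, exact outside degree `0`, with `H⁰(K q) ≅ Hn q`
  gives a spectral sequence starting at page one with `E₁^{p,q} = (K q).X p` abutting to `Hn`.
-/

set_option autoImplicit false
universe v u
open CategoryTheory CategoryTheory.Limits

namespace Groth.Agent.H5.Desc

structure SplitTower (C : Type u) [Category.{v} C] [Preadditive C] where
  G : ℕ → C
  ι : ∀ p, G p ⟶ G (p + 1)
  ρ : ∀ p, G (p + 1) ⟶ G p
  ι_ρ : ∀ p, ι p ≫ ρ p = 𝟙 (G p)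
  H : C
  j : H ⟶ G 0
  r : G 0 ⟶ H
  j_r : j ≫ r = 𝟙 H

namespace SplitTower

section Preadditive

variable {C : Type u} [Category.{v} C] [Preadditive C] (T : SplitTower C)

attribute [reassoc (attr := simp)] ι_ρ j_r

theorem idem_compl {X : C} (a : X ⟶ X) (ha : a ≫ a = a) :
    (𝟙 X - a) ≫ (𝟙 X - a) = 𝟙 X - a := by
  simp [Preadditive.sub_comp, Preadditive.comp_sub, ha]

/-- The idempotent `w p` of `G p` (complementary to the projector onto the cycles). -/
noncomputable def w : ∀ p, T.G p ⟶ T.G p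
  | 0 => 𝟙 _ - T.r ≫ T.j
  | p + 1 => 𝟙 _ - T.ρ p ≫ w p ≫ T.ι p

theorem w_zero : T.w 0 = 𝟙 _ - T.r ≫ T.j := rfl

theorem w_succ (p : ℕ) : T.w (p + 1) = 𝟙 _ - T.ρ p ≫ T.w p ≫ T.ι p := rfl

theorem w_w : ∀ p, T.w p ≫ T.w p = T.w p
  | 0 => by
    rw [w_zero]
    apply idem_compl
    simp
  | p + 1 => by
    rw [w_succ]
    apply idem_compl
    simp only [Category.assoc, T.ι_ρ_assoc]
    rw [reassoc_of% (w_w p)]

theorem w_comp_compl (p : ℕ) : T.w p ≫ (𝟙 _ - T.w p) = 0 := by
  rw [Preadditive.comp_sub, Category.comp_id, T.w_w, sub_self]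

/-- The formal differential. -/
noncomputable def d (p : ℕ) : T.G p ⟶ T.G (p + 1) := T.w p ≫ T.ι p

theorem ι_w_succ (p : ℕ) : T.ι p ≫ T.w (p + 1) = (𝟙 _ - T.w p) ≫ T.ι p := by
  rw [w_succ, Preadditive.comp_sub, Category.comp_id, T.ι_ρ_assoc, Preadditive.sub_comp,
    Category.id_comp]

theorem d_d (p : ℕ) : T.d p ≫ T.d (p + 1) = 0 := by
  unfold d
  rw [Category.assoc, reassoc_of% (T.ι_w_succ p), reassoc_of% (T.w_comp_compl p), zero_comp]

theorem j_d : T.j ≫ T.d 0 = 0 := by
  unfold d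
  rw [w_zero, Preadditive.sub_comp, Preadditive.comp_sub, Category.id_comp, Category.assoc,
    T.j_r_assoc, sub_self]

theorem eq_of_comp_d_zero {A : C} (x : A ⟶ T.G 0) (hx : x ≫ T.d 0 = 0) :
    (x ≫ T.r) ≫ T.j = x := by
  have h1 : x ≫ T.w 0 = 0 := by
    have := hx =≫ T.ρ 0
    simpa [d] using this
  rw [w_zero, Preadditive.comp_sub, Category.comp_id, sub_eq_zero] at h1
  rw [Category.assoc, ← h1]

theorem eq_of_comp_d_succ {A : C} (p : ℕ) (x : A ⟶ T.G (p + 1)) (hx : x ≫ T.d (p + 1) = 0) :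
    (x ≫ T.ρ p) ≫ T.d p = x := by
  have h1 : x ≫ T.w (p + 1) = 0 := by
    have := hx =≫ T.ρ (p + 1)
    simpa [d] using this
  rw [w_succ, Preadditive.comp_sub, Category.comp_id, sub_eq_zero] at h1
  unfold d
  rw [Category.assoc, ← h1]

/-- `j` is a kernel of `d 0`. -/
noncomputable def isLimitKernelFork (φ : T.G 0 ⟶ T.G (0 + 1)) (hφ : φ = T.d 0) :
    IsLimit (KernelFork.ofι T.j (show T.j ≫ φ = 0 by rw [hφ]; exact T.j_d)) :=
  KernelFork.IsLimit.ofι _ _ (fun x _ => x ≫ T.r)
    (fun x hx => T.eq_of_comp_d_zero x (by rw [← hφ]; exact hx))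
    (fun x hx m hm => by
      rw [← hm, Category.assoc, T.j_r, Category.comp_id])

/-- The formal complex, indexed by `ℕ`. -/
noncomputable def cxN : CochainComplex C ℕ := CochainComplex.of T.G T.d T.d_d

end Preadditive

section Abelian

variable {C : Type u} [Category.{v} C] [Abelian C] (T : SplitTower C)

theorem cxN_exactAt_succ (p : ℕ) : T.cxN.ExactAt (p + 1) := by
  rw [HomologicalComplex.exactAt_iff' T.cxN p (p + 1) (p + 1 + 1) (by simp) (by simp)]
  rw [ShortComplex.exact_iff_exact_up_to_refinements]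
  intro A x hx
  refine ⟨A, 𝟙 A, inferInstance, x ≫ T.ρ p, ?_⟩
  have hx' : x ≫ T.d (p + 1) = 0 := by
    simp [cxN] at hx
    exact hx
  have := (T.eq_of_comp_d_succ p x hx').symm
  simp [cxN]
  rw [← Category.assoc]
  exact this

/-- `H⁰` of the formal complex is `H`. -/
noncomputable def cxNHomologyZeroIso : T.cxN.homology 0 ≅ T.H :=
  ShortComplex.homologyMapIso (T.cxN.isoSc' 0 0 1 (by simp) (by simp)) ≪≫
    (ShortComplex.LeftHomologyData.ofIsLimitKernelFork (T.cxN.sc' 0 0 1)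
      (T.cxN.shape 0 0 (by simp)) _
      (T.isLimitKernelFork (T.cxN.d 0 1) (CochainComplex.of_d T.G T.d 0))).homologyIso

/-- The formal complex, indexed by `ℤ`. -/
noncomputable def cx : CochainComplex C ℤ := T.cxN.extend ComplexShape.embeddingUpNat

theorem cx_exactAt (p : ℤ) (hp : p ≠ 0) : T.cx.ExactAt p := by
  by_cases h : 0 ≤ p
  · obtain ⟨n, rfl⟩ := Int.eq_ofNat_of_zero_le h
    obtain ⟨m, rfl⟩ : ∃ m, n = m + 1 := ⟨n - 1, by omega⟩
    exact (HomologicalComplex.extend_exactAt_iff T.cxN ComplexShape.embeddingUpNat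
      (j := m + 1) (by simp)).2 (T.cxN_exactAt_succ m)
  · apply HomologicalComplex.extend_exactAt
    intro j hj
    apply h
    rw [← hj]
    simp

noncomputable def cxHomologyZeroIso : T.cx.homology 0 ≅ T.H :=
  HomologicalComplex.extendHomologyIso T.cxN ComplexShape.embeddingUpNat (j := 0) (by simp) ≪≫
    T.cxNHomologyZeroIso

noncomputable def cxXIso (n : ℕ) : T.cx.X (n : ℤ) ≅ T.G n :=
  HomologicalComplex.extendXIso T.cxN ComplexShape.embeddingUpNat (i := n) (by simp)

theorem isZero_cx_X (p : ℤ) (hp : p < 0) : IsZero (T.cx.X p) := by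
  apply HomologicalComplex.isZero_extend_X
  intro j hj
  have : (0 : ℤ) ≤ p := by rw [← hj]; simp
  omega

theorem isZero_cx_X_of_isZero (hG : ∀ n, IsZero (T.G n)) (p : ℤ) : IsZero (T.cx.X p) := by
  by_cases h : 0 ≤ p
  · obtain ⟨n, rfl⟩ := Int.eq_ofNat_of_zero_le h
    exact (hG n).of_iso (T.cxXIso n)
  · exact T.isZero_cx_X p (by omega)

end Abelian

end SplitTower

end Groth.Agent.H5.Desc
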