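import Groth.Agent.H5.Desc.Formal
import Mathlib.Data.Set.Finite.Basic
import Mathlib.Order.Interval.Finset.Defs
import Mathlib.Data.Int.Interval

/-!
# A spectral sequence starting at page one which degenerates at page two

Given a family `K q` (`q : ℤ`) of cochain complexes which are exact outside degree `0`, with
`H⁰(K q) ≅ Hn q`, we construct a cohomological spectral sequence starting at page `1` with
`E₁^{p,q} = (K q).X p`, degenerating at page `2`, and abutting to `Hn`.
-/

set_option autoImplicit false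
universe v u
open CategoryTheory CategoryTheory.Limits

namespace Groth.Agent.H5.Desc

variable {C : Type u} [Category.{v} C] [Abelian C]

/-- The complex shape of the `r`-th page. -/
abbrev cs (r : ℤ) : ComplexShape (ℤ × ℤ) := ComplexShape.up' (⟨r, 1 - r⟩ : ℤ × ℤ)

/-- The first page. -/
noncomputable def page1 (K : ℤ → CochainComplex C ℤ) : HomologicalComplex C (cs 1) where
  X pq := (K pq.2).X pq.1
  d pq pq' := if h : pq.2 = pq'.2 then (K pq.2).d pq.1 pq'.1 ≫ eqToHom (by rw [h]) else 0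
  shape pq pq' hrel := by
    split_ifs with h
    · have : ¬ (ComplexShape.up ℤ).Rel pq.1 pq'.1 := by
        intro h1
        apply hrel
        simp only [ComplexShape.up'_Rel]
        ext
        · simpa using h1
        · simpa using h
      rw [(K pq.2).shape _ _ this, zero_comp]
    · rfl
  d_comp_d' := by
    rintro ⟨p, q⟩ ⟨p', q'⟩ ⟨p'', q''⟩ _ _
    dsimp only
    by_cases h : q = q'
    · subst h
      by_cases h' : q = q''
      · subst h'
        simp
      · simp [h']
    · simp [h]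

theorem page1_d (K : ℤ → CochainComplex C ℤ) (p p' q : ℤ) :
    (page1 K).d (p, q) (p', q) = (K q).d p p' := by
  simp [page1]

theorem cs_one_prev (p q : ℤ) : (cs 1).prev (p, q) = (p - 1, q) :=
  (cs 1).prev_eq' (by simp only [ComplexShape.up'_Rel]; ext <;> simp)

theorem cs_one_next (p q : ℤ) : (cs 1).next (p, q) = (p + 1, q) :=
  (cs 1).next_eq' (by simp only [ComplexShape.up'_Rel]; ext <;> simp)

noncomputable def page1ScIso (K : ℤ → CochainComplex C ℤ) (p q : ℤ) :
    (page1 K).sc (p, q) ≅ (K q).sc p :=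
  (page1 K).isoSc' (p - 1, q) (p, q) (p + 1, q) (cs_one_prev p q) (cs_one_next p q) ≪≫
    (ShortComplex.isoMk (Iso.refl _) (Iso.refl _) (Iso.refl _)
      (by simp [page1_d]; exact (Category.id_comp _).trans (Category.comp_id _).symm)
      (by simp [page1_d]; exact (Category.id_comp _).trans (Category.comp_id _).symm) :
      (page1 K).sc' (p - 1, q) (p, q) (p + 1, q) ≅ (K q).sc' (p - 1) p (p + 1)) ≪≫
    ((K q).isoSc' (p - 1) p (p + 1) (by simp) (by simp)).symm

noncomputable def page1HomologyIso (K : ℤ → CochainComplex C ℤ) (p q : ℤ) :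
    (page1 K).homology (p, q) ≅ (K q).homology p :=
  ShortComplex.homologyMapIso (page1ScIso K p q)

theorem page1_exactAt_iff (K : ℤ → CochainComplex C ℤ) (p q : ℤ) :
    (page1 K).ExactAt (p, q) ↔ (K q).ExactAt p :=
  ShortComplex.exact_iff_of_iso (page1ScIso K p q)

/-- The pages `r ≥ 2`: the homology of the first page, with zero differentials. -/
noncomputable def pageInf (K : ℤ → CochainComplex C ℤ) (r : ℤ) : HomologicalComplex C (cs r) where
  X pq := (page1 K).homology pq
  d _ _ := 0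
  shape _ _ _ := rfl
  d_comp_d' _ _ _ _ _ := by simp

noncomputable def pageInfHomologyIso (K : ℤ → CochainComplex C ℤ) (r : ℤ) (pq : ℤ × ℤ) :
    (pageInf K r).homology pq ≅ (page1 K).homology pq :=
  (ShortComplex.HomologyData.ofZeros ((pageInf K r).sc pq) rfl rfl).left.homologyIso

noncomputable def pageOf (K : ℤ → CochainComplex C ℤ) (r : ℤ) : HomologicalComplex C (cs r) :=
  if h : r = 1 then by subst h; exact page1 K else pageInf K r

theorem pageOf_one (K : ℤ → CochainComplex C ℤ) : pageOf K 1 = page1 K := by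
  unfold pageOf
  rw [dif_pos rfl]

theorem pageOf_ne (K : ℤ → CochainComplex C ℤ) (r : ℤ) (h : r ≠ 1) : pageOf K r = pageInf K r :=
  dif_neg h

/-- The spectral sequence. -/
noncomputable def ssOf (K : ℤ → CochainComplex C ℤ) : CohomologicalSpectralSequence C 1 where
  page r _ := pageOf K r
  iso r r' pq hrr' hr :=
    if h : r = 1 then
      eqToIso (by subst h; rw [pageOf_one]) ≪≫
        (eqToIso (by rw [pageOf_ne K r' (by omega)]; rfl) :
          (page1 K).homology pq ≅ (pageOf K r').X pq)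
    else
      eqToIso (by rw [pageOf_ne K r h]) ≪≫ pageInfHomologyIso K r pq ≪≫
        (eqToIso (by rw [pageOf_ne K r' (by omega)]; rfl) :
          (page1 K).homology pq ≅ (pageOf K r').X pq)

theorem ssOf_page (K : ℤ → CochainComplex C ℤ) (r : ℤ) (hr : 1 ≤ r) :
    (ssOf K).page r hr = pageOf K r := rfl

theorem ssOf_d_eq_zero (K : ℤ → CochainComplex C ℤ) (r : ℤ) (hr : 1 ≤ r) (h2 : 2 ≤ r)
    (a b : ℤ × ℤ) : ((ssOf K).page r hr).d a b = 0 := by
  rw [ssOf_page, pageOf_ne K r (by omega)]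
  rfl

noncomputable def ssOfPageOneXIso (K : ℤ → CochainComplex C ℤ) (p q : ℤ) :
    ((ssOf K).page 1 le_rfl).X (p, q) ≅ (K q).X p :=
  eqToIso (by rw [ssOf_page, pageOf_one]; rfl)

noncomputable def ssOfPageTwoXIso (K : ℤ → CochainComplex C ℤ) (p q : ℤ) :
    ((ssOf K).page 2 (by norm_num)).X (p, q) ≅ (K q).homology p :=
  eqToIso (by rw [ssOf_page, pageOf_ne K 2 (by norm_num)]; rfl) ≪≫ page1HomologyIso K p q

/-! ### The abutment -/

/-- The two-step filtration `⊤` (for `p ≤ 0`), `⊥` (for `p > 0`). -/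
noncomputable def filOf (X : C) (p : ℤ) : Subobject X := if p ≤ 0 then ⊤ else ⊥

theorem filOf_anti (X : C) : Antitone (filOf X) := by
  intro p p' h
  unfold filOf
  by_cases h1 : p ≤ 0
  · rw [if_pos h1]
    exact le_top
  · rw [if_neg h1, if_neg (by omega)]

noncomputable def subquotTopBotIso {X : C} (Z B : Subobject X) (h : B ≤ Z) (hZ : Z = ⊤)
    (hB : B = ⊥) : SpSeq.subquot Z B h ≅ X := by
  subst hZ hB
  exact cokernelIsoOfEq (f := (⊥ : Subobject X).ofLE ⊤ h) (g := 0)
      (zero_of_source_iso_zero _ Subobject.botCoeIsoZero) ≪≫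
    cokernelZeroIsoTarget ≪≫ asIso (⊤ : Subobject X).arrow

theorem isZero_subquot_of_eq {X : C} (Z B : Subobject X) (h : B ≤ Z) (hZB : B = Z) :
    IsZero (SpSeq.subquot Z B h) := by
  subst hZB
  unfold SpSeq.subquot
  have : IsIso (B.ofLE B h) := by
    rw [Subobject.ofLE_refl]
    infer_instance
  exact isZero_cokernel_of_epi _

theorem exists_ss (K : ℤ → CochainComplex C ℤ) (Hn : ℤ → C)
    (hex : ∀ q p, p ≠ 0 → (K q).ExactAt p)
    (hH : ∀ q, Nonempty ((K q).homology 0 ≅ Hn q))
    (hzp : ∀ q p, p < 0 → IsZero ((K q).X p))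
    (hzq : ∀ q p, q < 0 → IsZero ((K q).X p)) :
    ∃ (E : CohomologicalSpectralSequence C 1) (a : SpSeq.Abutment E Hn),
      (∀ n, a.IsFinite n) ∧ SpSeq.IsBounded E ∧
      ∀ p q : ℤ, Nonempty ((E.page 1 le_rfl).X (p, q) ≅ (K q).X p) := by
  have hstat : ∀ pq : ℤ × ℤ, SpSeq.StationaryAt (ssOf K) pq 2 := fun pq =>
    ⟨by norm_num, fun r' h₀ hr' => ⟨ssOf_d_eq_zero K r' h₀ hr' _ _, ssOf_d_eq_zero K r' h₀ hr' _ _⟩⟩
  have hβ : ∀ pq : ℤ × ℤ, Nonempty (((ssOf K).page 2 (hstat pq).1).X pq ≅
      SpSeq.grPiece (filOf (Hn (pq.1 + pq.2))) (filOf_anti _) pq.1) := by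
    rintro ⟨p, q⟩
    by_cases hp : p = 0
    · subst hp
      obtain ⟨e⟩ := hH q
      refine ⟨ssOfPageTwoXIso K 0 q ≪≫ e ≪≫ eqToIso (by simp) ≪≫
        (subquotTopBotIso _ _ _ ?_ ?_).symm⟩
      · simp [filOf]
      · simp [filOf]
    · have h1 : IsZero (((ssOf K).page 2 (hstat (p, q)).1).X (p, q)) :=
        ((hex q p hp).isZero_homology).of_iso (ssOfPageTwoXIso K p q)
      have h2 : IsZero (SpSeq.grPiece (filOf (Hn ((p, q).1 + (p, q).2))) (filOf_anti _) (p, q).1) := by
        apply isZero_subquot_of_eq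
        dsimp only
        unfold filOf
        by_cases h0 : p ≤ 0
        · rw [if_pos h0, if_pos (by omega)]
        · rw [if_neg h0, if_neg (by omega)]
      exact ⟨h1.iso h2⟩
  refine ⟨ssOf K, ⟨fun n => filOf (Hn n), fun n => filOf_anti _, fun _ => 2, hstat,
    fun pq => (hβ pq).some⟩, ?_, ?_, ?_⟩
  · intro n
    have h0 : filOf (Hn n) 0 = ⊤ := if_pos le_rfl
    have h1 : filOf (Hn n) 1 = ⊥ := if_neg (by norm_num)
    exact ⟨⟨0, h0⟩, ⟨1, h1⟩⟩
  · intro n
    refine (Set.finite_Icc (0 : ℤ) n).subset ?_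
    intro p hp
    simp only [Set.mem_setOf_eq] at hp
    by_contra hcon
    apply hp
    simp only [Set.mem_Icc, not_and_or, not_le] at hcon
    refine IsZero.of_iso ?_ (ssOfPageOneXIso K p (n - p))
    rcases hcon with h | h
    · exact hzp _ _ h
    · exact hzq _ _ (by omega)
  · intro p q
    exact ⟨ssOfPageOneXIso K p q⟩

end Groth.Agent.H5.Desc
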